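import Groth.Agent.Lib.HomColim20.Sections
import Groth.Agent.Lib.HomSh.QCoh

/-!
# Morphisms out of a finitely presented module commute with filtered colimits
-/

set_option autoImplicit false
set_option linter.style.haveILetI false

universe u

open CategoryTheory CategoryTheory.Limits AlgebraicGeometry Opposite TopologicalSpace

noncomputable section

namespace GrothLib.HomColim20

open GrothLib.QCoh (stalkLin stalkLin_germ stalkLin_comp)
open GrothLib.HomSh (GenOn RelOn)

variable {X : Scheme.{u}}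

theorem section_ext_germ (F : X.Modules) {U : X.Opens} {s t : Γ(F, U)}
    (h : ∀ (y : X) (hy : y ∈ U), F.presheaf.germ U y hy s = F.presheaf.germ U y hy t) : s = t :=
  TopCat.Presheaf.section_ext (C := Ab.{u}) (X := X.carrier) ⟨F.presheaf, F.isSheaf⟩ U s t h

theorem hom_ext_stalkLin {M N : X.Modules} {φ φ' : M ⟶ N}
    (h : ∀ (y : X) (v : M.presheaf.stalk y), stalkLin φ y v = stalkLin φ' y v) : φ = φ' :=
  Scheme.Modules.hom_ext _ _ fun U => by
    ext s
    refine section_ext_germ N fun y hy => ?_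
    rw [← stalkLin_germ φ, ← stalkLin_germ φ', h]

/-- A global section of the sheaf Hom is a morphism. -/
theorem exists_hom_of_section {M N : X.Modules} (g : Γ(RefHull.homSh M N, ⊤)) :
    ∃ φ : M ⟶ N, ∀ (y : X) (v : M.presheaf.stalk y), stalkLin φ y v = g.1 ⟨y, trivial⟩ v := by
  let r : ∀ U : X.Opens, Γ(RefHull.homSh M N, U) := fun U =>
    (RefHull.homSh M N).presheaf.map (homOfLE (le_top : U ≤ ⊤)).op g
  choose app happ using fun (U : X.Opens) (m : Γ(M, U)) => (HomSh.existsUnique_apply (r U) m).exists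
  have happ' : ∀ (U : X.Opens) (m : Γ(M, U)) (y : X) (hy : y ∈ U),
      g.1 ⟨y, trivial⟩ (M.presheaf.germ U y hy m) = N.presheaf.germ U y hy (app U m) :=
    fun U m y hy => happ U m y hy
  let α : M.presheaf ⟶ N.presheaf :=
    { app := fun U => AddCommGrpCat.ofHom
        { toFun := app U.unop
          map_zero' := section_ext_germ N fun y hy => by
            refine (happ' _ _ y hy).symm.trans ?_
            erw [map_zero, map_zero, map_zero]
          map_add' := fun a b => section_ext_germ N fun y hy => by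
            refine (happ' _ _ y hy).symm.trans ?_
            erw [map_add, map_add, map_add, happ', happ'] }
      naturality := fun U V i => by
        ext m
        refine section_ext_germ N fun y hy => ?_
        change N.presheaf.germ V.unop y hy (app V.unop (M.presheaf.map i m)) =
          N.presheaf.germ V.unop y hy (N.presheaf.map i (app U.unop m))
        rw [← happ', show i = i.unop.op from rfl, TopCat.Presheaf.germ_res_apply,
          TopCat.Presheaf.germ_res_apply, happ'] }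
  let φ : M ⟶ N := ⟨PresheafOfModules.homMk α fun U (a : Γ(X, U.unop)) (m : Γ(M, U.unop)) =>
    section_ext_germ N fun y hy => by
      change N.presheaf.germ U.unop y hy (app U.unop (a • m)) =
        N.presheaf.germ U.unop y hy (a • app U.unop m)
      rw [← happ', Mero.germ_smul, Mero.germ_smul, map_smul, happ']⟩
  refine ⟨φ, fun y v => ?_⟩
  obtain ⟨U, hy, s, rfl⟩ := TopCat.Presheaf.exists_germ_eq M.presheaf v
  rw [stalkLin_germ]
  exact (happ' U s y hy).symm

theorem ringMap_self (U : X.Opens) (a : Γ(X, U)) : X.presheaf.map (homOfLE (le_refl U)).op a = a := by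
  rw [show (homOfLE (le_refl U)).op = 𝟙 _ from rfl, CategoryTheory.Functor.map_id]
  rfl

variable (F : X.Modules)

/-- A quasi-compact open with finitely many generators and relations. -/
structure Chart where
  U : X.Opens
  compact : IsCompact (U : Set X)
  ι : Type u
  κ : Type u
  [fι : Fintype ι]
  [fκ : Finite κ]
  m : ι → Γ(F, U)
  a : κ → ι → Γ(X, U)
  gen : GenOn F U m
  rel : RelOn F m a

attribute [instance] Chart.fι Chart.fκ

variable {F}

theorem exists_chart (hF : CohB1.IsFP F) (x : X) : ∃ C : Chart F, x ∈ C.U := by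
  obtain ⟨W, ι, _, κ, _, m, a, hxW, hgen, hrel⟩ := HomSh.exists_relOn F hF x
  obtain ⟨U, hU, hxU, hUW⟩ := exists_isAffineOpen_mem_and_subset hxW
  refine ⟨⟨U, hU.isCompact, ι, κ, fun i => F.presheaf.map (homOfLE hUW).op (m i),
    fun k i => X.presheaf.map (homOfLE hUW).op (a k i), fun y hy => ?_, fun y hy => ?_⟩, hxU⟩
  · have e : (fun i => F.presheaf.germ U y hy (F.presheaf.map (homOfLE hUW).op (m i))) =
        fun i => F.presheaf.germ W y (hUW hy) (m i) :=
      funext fun i => TopCat.Presheaf.germ_res_apply F.presheaf (homOfLE hUW) y hy (m i)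
    rw [e]
    exact hgen y _
  · have e : (fun i => F.presheaf.germ U y hy (F.presheaf.map (homOfLE hUW).op (m i))) =
        fun i => F.presheaf.germ W y (hUW hy) (m i) :=
      funext fun i => TopCat.Presheaf.germ_res_apply F.presheaf (homOfLE hUW) y hy (m i)
    have e' : (fun k i => X.presheaf.germ U y hy (X.presheaf.map (homOfLE hUW).op (a k i))) =
        fun k i => X.presheaf.germ W y (hUW hy) (a k i) :=
      funext fun k => funext fun i => TopCat.Presheaf.germ_res_apply X.presheaf (homOfLE hUW) y hy (a k i)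
    obtain ⟨r1, r2⟩ := hrel y (hUW hy)
    refine ⟨fun k => ?_, fun c hc => ?_⟩
    · have := r1 k
      simp only [← congrFun e, ← congrFun (congrFun e' k)] at this
      exact this
    · rw [e']
      refine r2 c ?_
      simp only [← congrFun e]
      exact hc

theorem exists_charts [CompactSpace X] (hF : CohB1.IsFP F) :
    ∃ (S : Type u) (_ : Finite S) (C : S → Chart F), ∀ x, ∃ s, x ∈ (C s).U := by
  choose C hC using fun x => exists_chart hF x
  obtain ⟨t, ht⟩ := isCompact_univ.elim_finite_subcover (fun x : X => ((C x).U : Set X))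
    (fun x => (C x).U.isOpen) fun x _ => Set.mem_iUnion.2 ⟨x, hC x⟩
  refine ⟨↥t, inferInstance, fun x => C x.1, fun x => ?_⟩
  obtain ⟨y, hy, hxy⟩ := Set.mem_iUnion₂.1 (ht (Set.mem_univ x))
  exact ⟨⟨y, hy⟩, hxy⟩

/-- The relations hold for the generators. -/
theorem Chart.rel_sum (C : Chart F) (k : C.κ) : ∑ i, C.a k i • C.m i = 0 := by
  refine section_ext_germ F fun y hy => ?_
  rw [map_sum, map_zero]
  simp only [Mero.germ_smul]
  exact (C.rel y hy).1 k

/-- Near a common point, sections are combinations of the generators of a chart. -/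
theorem Chart.exists_coeff (C : Chart F) {W : X.Opens} {ι' : Type u} [Finite ι'] (m' : ι' → Γ(F, W))
    {y : X} (hy : y ∈ C.U ⊓ W) :
    ∃ (V : X.Opens) (h₁ : V ≤ C.U) (h₂ : V ≤ W) (c : ι' → C.ι → Γ(X, V)),
      IsCompact (V : Set X) ∧ y ∈ V ∧ ∀ l, F.presheaf.map (homOfLE h₂).op (m' l) =
        ∑ i, c l i • F.presheaf.map (homOfLE h₁).op (C.m i) := by
  choose e he using fun l => (Submodule.mem_span_range_iff_exists_fun _).1
    ((C.gen y hy.1).ge (Submodule.mem_top (x := F.presheaf.germ W y hy.2 (m' l))))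
  choose Vc hVc r hr using fun l i => TopCat.Presheaf.exists_germ_eq X.presheaf (e l i)
  let W₀ : X.Opens := ⟨(⋂ p : ι' × C.ι, ((Vc p.1 p.2 : X.Opens) : Set X)) ∩ (C.U ⊓ W : X.Opens),
    (isOpen_iInter_of_finite fun p : ι' × C.ι => (Vc p.1 p.2).isOpen).inter (C.U ⊓ W).isOpen⟩
  have hy₀ : y ∈ W₀ := ⟨Set.mem_iInter.2 fun p : ι' × C.ι => hVc p.1 p.2, hy⟩
  have h1 : W₀ ≤ C.U := fun z hz => hz.2.1
  have h2 : W₀ ≤ W := fun z hz => hz.2.2
  let r' : ι' → C.ι → Γ(X, W₀) := fun l i =>
    X.presheaf.map (homOfLE (fun z hz => Set.mem_iInter.1 hz.1 (l, i) : W₀ ≤ Vc l i)).op (r l i)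
  obtain ⟨W₁, hW₁, hy₁, hz⟩ := HomSh.exists_nhd_zero F hy₀ (fun l => F.presheaf.map (homOfLE h2).op (m' l) -
      ∑ i, r' l i • F.presheaf.map (homOfLE h1).op (C.m i)) fun l => by
    rw [map_sub, map_sum, TopCat.Presheaf.germ_res_apply, sub_eq_zero, ← he l]
    refine Finset.sum_congr rfl fun i _ => ?_
    simp only [r']
    rw [Mero.germ_smul, TopCat.Presheaf.germ_res_apply, TopCat.Presheaf.germ_res_apply, hr]
  obtain ⟨V, hV, hyV, hV₁⟩ := exists_isAffineOpen_mem_and_subset hy₁
  refine ⟨V, fun z hz => h1 (hW₁ (hV₁ hz)), fun z hz => h2 (hW₁ (hV₁ hz)),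
    fun l i => X.presheaf.map (homOfLE (fun z hz => hW₁ (hV₁ hz) : V ≤ W₀)).op (r' l i),
    hV.isCompact, hyV, fun l => section_ext_germ F fun z hz' => ?_⟩
  have e := congrArg (F.presheaf.germ W₁ z (hV₁ hz')) (hz l)
  rw [map_zero, TopCat.Presheaf.germ_res_apply, map_sub, map_sum, sub_eq_zero] at e
  simp only [map_sum, Mero.germ_smul, TopCat.Presheaf.germ_res_apply] at e ⊢
  exact e

variable [CompactSpace X] [QuasiSeparatedSpace X] {J : Type u} [SmallCategory J] [IsFiltered J]
  {D : J ⥤ X.Modules} {c : Cocone D}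

/-- Morphisms from a finitely presented module into a filtered colimit factor through a stage. -/
theorem exists_factor (hF : CohB1.IsFP F) (hc : IsColimit c) (φ : F ⟶ c.pt) :
    ∃ (j : J) (g : F ⟶ D.obj j), g ≫ c.ι.app j = φ := by
  classical
  obtain ⟨S, _, C, hcov⟩ := exists_charts hF
  choose j₀ x₀ hx₀ using fun p : (Σ s, (C s).ι) => sec_gen hc (C p.1).compact (φ.app _ ((C p.1).m p.2))
  haveI := Fintype.ofFinite (Σ s, (C s).ι)
  obtain ⟨j, hj⟩ := IsFiltered.sup_objs_exists (Finset.univ.image j₀)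
  let e : ∀ p, j₀ p ⟶ j := fun p => (hj (Finset.mem_image_of_mem j₀ (Finset.mem_univ p))).some
  let n₀ : ∀ s (i : (C s).ι), Γ(D.obj j, (C s).U) := fun s i => (D.map (e ⟨s, i⟩)).app _ (x₀ ⟨s, i⟩)
  have hn₀ : ∀ s i, (c.ι.app j).app _ (n₀ s i) = φ.app _ ((C s).m i) := fun s i =>
    (ι_app_map_app (e ⟨s, i⟩) _).trans (hx₀ ⟨s, i⟩)
  have hsum : ∀ (ψ : D.obj j ⟶ c.pt), ψ = c.ι.app j → ∀ s (k : (C s).κ),
      ψ.app _ (∑ i, (C s).a k i • n₀ s i) = 0 := by
    rintro ψ rfl s k
    rw [map_sum]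
    simp only [Scheme.Modules.Hom.app_smul, hn₀]
    simp only [← Scheme.Modules.Hom.app_smul]
    rw [← map_sum, Chart.rel_sum, map_zero]
  obtain ⟨k₁, f₁, hf₁⟩ := sec_kill_finite hc (fun p : (Σ s, (C s).κ) => (C p.1).U)
    (fun p => (C p.1).compact) (fun p => ∑ i, (C p.1).a p.2 i • n₀ p.1 i) fun p => hsum _ rfl p.1 p.2
  let n₁ : ∀ s (i : (C s).ι), Γ(D.obj k₁, (C s).U) := fun s i => (D.map f₁).app _ (n₀ s i)
  have hn₁ : ∀ s i, (c.ι.app k₁).app _ (n₁ s i) = φ.app _ ((C s).m i) := fun s i =>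
    (ι_app_map_app f₁ _).trans (hn₀ s i)
  have hrel₁ : ∀ s k, ∑ i, (C s).a k i • n₁ s i = 0 := fun s k => by
    have := hf₁ ⟨s, k⟩
    dsimp only at this
    rw [map_sum] at this
    simpa only [Scheme.Modules.Hom.app_smul] using this
  -- agreement on the overlaps
  choose V h₁ h₂ cc hVc hyV hcc using fun (p : S × S) (y : ↥((C p.1).U ⊓ (C p.2).U)) =>
    (C p.1).exists_coeff (C p.2).m y.2
  choose T hT using fun p : S × S =>
    ((QuasiSeparatedSpace.inter_isCompact _ _ (C p.1).U.isOpen (C p.1).compact (C p.2).U.isOpen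
      (C p.2).compact) : IsCompact (((C p.1).U : Set X) ∩ (C p.2).U)).elim_finite_subcover
      (fun y : ↥((C p.1).U ⊓ (C p.2).U) => (V p y : Set X)) (fun y => (V p y).isOpen)
      fun y hy => Set.mem_iUnion.2 ⟨⟨y, hy⟩, hyV p ⟨y, hy⟩⟩
  obtain ⟨k, f₂, hf₂⟩ := sec_kill_finite hc (i := k₁)
    (fun q : (Σ p : S × S, ↥(T p) × (C p.2).ι) => V q.1 q.2.1.1) (fun q => hVc _ _)
    (fun q => (D.obj k₁).presheaf.map (homOfLE (h₂ q.1 q.2.1.1)).op (n₁ q.1.2 q.2.2) -
      ∑ i, cc q.1 q.2.1.1 q.2.2 i • (D.obj k₁).presheaf.map (homOfLE (h₁ q.1 q.2.1.1)).op (n₁ q.1.1 i))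
    fun q => by
      rw [map_sub, map_sum]
      simp only [Scheme.Modules.Hom.app_smul]
      simp only [← QCoh.map_app, hn₁]
      simp only [QCoh.map_app]
      simp only [← Scheme.Modules.Hom.app_smul]
      rw [← map_sum, ← map_sub, ← hcc, sub_self, map_zero]
  let n : ∀ s (i : (C s).ι), Γ(D.obj k, (C s).U) := fun s i => (D.map f₂).app _ (n₁ s i)
  have hn : ∀ s i, (c.ι.app k).app _ (n s i) = φ.app _ ((C s).m i) := fun s i =>
    (ι_app_map_app f₂ _).trans (hn₁ s i)
  have hrel : ∀ s a, ∑ i, (C s).a a i • n s i = 0 := fun s a => by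
    have := congrArg ((D.map f₂).app (C s).U) (hrel₁ s a)
    rw [map_zero, map_sum] at this
    simpa only [Scheme.Modules.Hom.app_smul] using this
  choose g hg using fun s => HomSh.exists_section_of_relOn F (D.obj k) (C s).gen (C s).rel le_rfl le_rfl (n s)
    fun a => by
      refine (congrArg _ ?_).trans (map_zero _)
      refine Eq.trans (Finset.sum_congr rfl fun i _ => ?_) (hrel s a)
      exact congrArg (· • n s i) (ringMap_self _ _)
  have hagree : ∀ (s t : S) (y : X) (hs : y ∈ (C s).U) (ht : y ∈ (C t).U),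
      (g s).1 ⟨y, hs⟩ = (g t).1 ⟨y, ht⟩ := fun s t y hs ht => by
    refine LinearMap.ext_on_range ((C t).gen y ht) fun l => ?_
    obtain ⟨z, hzT, hyz⟩ := Set.mem_iUnion₂.1 (hT (s, t) ⟨hs, ht⟩)
    have e := congrArg (F.presheaf.germ (V (s, t) z) y hyz) (hcc (s, t) z l)
    simp only [map_sum, Mero.germ_smul, TopCat.Presheaf.germ_res_apply] at e
    have e' := congrArg ((D.obj k).presheaf.germ (V (s, t) z) y hyz) (hf₂ ⟨(s, t), ⟨z, hzT⟩, l⟩)
    simp only [map_sub, map_sum, map_zero, Scheme.Modules.Hom.app_smul, ← QCoh.map_app, Mero.germ_smul,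
      TopCat.Presheaf.germ_res_apply, sub_eq_zero] at e'
    rw [hg t y ht l, e, map_sum]
    simp only [map_smul, hg s y hs]
    exact e'.symm
  choose σ hσ using hcov
  let fam : ∀ y : (⊤ : X.Opens), RefHull.StalkHom F (D.obj k) y.1 := fun y => (g (σ y.1)).1 ⟨y.1, hσ y.1⟩
  have hloc : RefHull.IsLocSect F (D.obj k) fam := (RefHull.homLoc F (D.obj k)).locality fam fun y =>
    ⟨(C (σ y.1)).U, hσ y.1, homOfLE le_top, by
      have := (g (σ y.1)).2
      convert this using 1
      funext z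
      exact hagree _ _ z.1 (hσ z.1) z.2⟩
  obtain ⟨ψ, hψ⟩ := exists_hom_of_section (M := F) (N := D.obj k) ⟨fam, hloc⟩
  refine ⟨k, ψ, hom_ext_stalkLin fun y v => LinearMap.congr_fun
    (LinearMap.ext_on_range ((C (σ y)).gen y (hσ y)) (f := stalkLin (ψ ≫ c.ι.app k) y)
      (g := stalkLin φ y) fun i => ?_) v⟩
  rw [stalkLin_comp, hψ]
  change stalkLin (c.ι.app k) y ((g (σ y)).1 ⟨y, hσ y⟩ _) = _
  rw [hg (σ y) y (hσ y) i, stalkLin_germ, hn, stalkLin_germ]
  rfl

/-- Morphisms from a finitely presented module agreeing in a filtered colimit agree at a stage. -/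
theorem exists_eq (hF : CohB1.IsFP F) (hc : IsColimit c) {i : J} (g g' : F ⟶ D.obj i)
    (h : g ≫ c.ι.app i = g' ≫ c.ι.app i) : ∃ (k : J) (f : i ⟶ k), g ≫ D.map f = g' ≫ D.map f := by
  obtain ⟨S, _, C, hcov⟩ := exists_charts hF
  obtain ⟨k, f, hf⟩ := sec_kill_finite hc (fun p : (Σ s, (C s).ι) => (C p.1).U) (fun p => (C p.1).compact)
    (fun p => g.app _ ((C p.1).m p.2) - g'.app _ ((C p.1).m p.2)) fun p => by
      rw [map_sub, sub_eq_zero]
      exact congrArg (fun ψ : F ⟶ c.pt => ψ.app _ ((C p.1).m p.2)) h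
  refine ⟨k, f, hom_ext_stalkLin fun y v => ?_⟩
  obtain ⟨s, hs⟩ := hcov y
  refine LinearMap.congr_fun (LinearMap.ext_on_range ((C s).gen y hs) (f := stalkLin (g ≫ D.map f) y)
    (g := stalkLin (g' ≫ D.map f) y) fun l => ?_) v
  rw [stalkLin_germ, stalkLin_germ]
  refine congrArg _ ?_
  have := hf ⟨s, l⟩
  rw [map_sub, sub_eq_zero] at this
  exact this

end GrothLib.HomColim20
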