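import Groth.Agent.Lib.HomColim20.Sections
import Groth.Agent.Lib.AffHom.Basic
import Groth.Agent.Lib.QCoh.Coherent

/-!
# Colimits detected on sections over a basis of quasi-compact opens; direct images
-/

set_option autoImplicit false
set_option linter.style.haveILetI false

universe u

open CategoryTheory CategoryTheory.Limits AlgebraicGeometry Opposite TopologicalSpace

noncomputable section

namespace GrothLib.HomColim20

variable {X : Scheme.{u}} [QuasiSeparatedSpace X] {J : Type u} [SmallCategory J] [IsFiltered J]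
  {D : J ⥤ X.Modules}

/-- A cocone whose sections over a basis of quasi-compact opens are the filtered colimits of the sections
is a colimit. -/
theorem isColimit_of_sections (c : Cocone D) {ι : Type u} {B : ι → X.Opens}
    (hB : Opens.IsBasis (Set.range B)) (hBc : ∀ i, IsCompact (B i : Set X))
    (hgen : ∀ i (t : Γ(c.pt, B i)), ∃ (j : J) (x : Γ(D.obj j, B i)), (c.ι.app j).app (B i) x = t)
    (hkill : ∀ i (j : J) (x : Γ(D.obj j, B i)), (c.ι.app j).app (B i) x = 0 →
      ∃ (k : J) (f : j ⟶ k), (D.map f).app (B i) x = 0) :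
    Nonempty (IsColimit c) := by
  let K := colimit.cocone D
  let hK : IsColimit K := colimit.isColimit D
  let δ : K.pt ⟶ c.pt := hK.desc c
  have hfac : ∀ (j : J) (i : ι) (x : Γ(D.obj j, B i)),
      δ.app (B i) ((K.ι.app j).app (B i) x) = (c.ι.app j).app (B i) x := fun j i x =>
    congrArg (fun ψ : D.obj j ⟶ c.pt => ψ.app (B i) x) (hK.fac c j)
  have hb : ∀ i, Function.Bijective (δ.app (B i)) := by
    refine fun i => ⟨(injective_iff_map_eq_zero _).2 fun t ht => ?_, fun t => ?_⟩
    · obtain ⟨j, x, rfl⟩ := sec_gen hK (hBc i) t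
      obtain ⟨k, f, hf⟩ := hkill i j x ((hfac j i x).symm.trans ht)
      rw [← ι_app_map_app (c := K) f, hf, map_zero]
    · obtain ⟨j, x, rfl⟩ := hgen i t
      exact ⟨_, hfac j i x⟩
  obtain ⟨e, he⟩ := AffHom.exists_iso_basis hB (M := K.pt) (N := c.pt)
    (fun i => LinearEquiv.ofBijective (QCoh.appLinear δ (B i)) (hb i))
    (fun i j h m => QCoh.map_app δ (homOfLE h) m)
  have : IsIso δ := by
    rw [show δ = e.hom from AffHom.hom_ext_basis hB fun i m => (he i m).symm]
    infer_instance
  exact ⟨hK.ofPointIso (t := c)⟩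

/-- Direct images along quasi-compact morphisms from quasi-separated schemes commute with filtered colimits. -/
theorem preservesColimit_pushforward {Y : Scheme.{u}} [QuasiSeparatedSpace Y] (f : X ⟶ Y) [QuasiCompact f] :
    PreservesColimit D (Scheme.Modules.pushforward f) := by
  refine ⟨fun {c} hc => ?_⟩
  refine isColimit_of_sections ((Scheme.Modules.pushforward f).mapCocone c) (AffHom.isBasis_affB Y)
    (fun U => U.2.isCompact) (fun U t => ?_) fun U j x hx => ?_
  · exact sec_gen hc (U := f ⁻¹ᵁ U.1) (f.isCompact_preimage U.2.isCompact) t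
  · exact sec_kill hc (U := f ⁻¹ᵁ U.1) (f.isCompact_preimage U.2.isCompact) x hx

end GrothLib.HomColim20
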