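import Groth.Agent.Lib.ColimCoh.Top
import Groth.Agent.Lib.SheafCoh.ModColim
import Mathlib.AlgebraicGeometry.Modules.Sheaf
import Mathlib.AlgebraicGeometry.Morphisms.QuasiSeparated
import Mathlib.AlgebraicGeometry.Properties

/-!
# Sections of modules on quasi-compact opens commute with filtered colimits
-/

set_option autoImplicit false
set_option linter.style.haveILetI false

universe u

open CategoryTheory CategoryTheory.Limits AlgebraicGeometry Opposite TopologicalSpace

noncomputable section

namespace GrothLib.HomColim20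

variable {X : Scheme.{u}} [QuasiSeparatedSpace X] {J : Type u} [SmallCategory J] [IsFiltered J]
  {D : J ⥤ X.Modules} {c : Cocone D}

/-- The diagram of underlying abelian sheaves. -/
abbrev abDiag (D : J ⥤ X.Modules) : J ⥤ Sheaf (Opens.grothendieckTopology X) AddCommGrpCat.{u} :=
  D ⋙ SheafOfModules.toSheaf.{u} X.ringCatSheaf

theorem sections_colimit (hc : IsColimit c) {U : X.Opens} (hU : IsCompact (U : Set X)) :
    ColimCoh.GenAt (ColimCoh.preCocone ((SheafOfModules.toSheaf.{u} X.ringCatSheaf).mapCocone c)) U ∧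
      ColimCoh.KillAt (ColimCoh.preCocone ((SheafOfModules.toSheaf.{u} X.ringCatSheaf).mapCocone c)) U := by
  haveI := SheafCoh.preservesColimitsOfSize_toSheaf.{u} X.ringCatSheaf
  have hp : PreservesColimit D (SheafOfModules.toSheaf.{u} X.ringCatSheaf) :=
    (PreservesColimitsOfSize.preservesColimitsOfShape (J := J)
      (F := SheafOfModules.toSheaf.{u} X.ringCatSheaf)).preservesColimit (K := D)
  exact ColimCoh.sections_colimit ColimCoh.compactCov_h1 ColimCoh.compactCov_h2 (abDiag D)
    (hp.preserves hc).some hU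

/-- Every section of the colimit on a quasi-compact open comes from a stage. -/
theorem sec_gen (hc : IsColimit c) {U : X.Opens} (hU : IsCompact (U : Set X)) (t : Γ(c.pt, U)) :
    ∃ (j : J) (x : Γ(D.obj j, U)), (c.ι.app j).app U x = t :=
  (sections_colimit hc hU).1 t

/-- A section dying in the colimit dies at a stage. -/
theorem sec_kill (hc : IsColimit c) {U : X.Opens} (hU : IsCompact (U : Set X)) {i : J}
    (x : Γ(D.obj i, U)) (hx : (c.ι.app i).app U x = 0) :
    ∃ (k : J) (f : i ⟶ k), (D.map f).app U x = 0 :=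
  (sections_colimit hc hU).2 i x hx

omit [QuasiSeparatedSpace X] [IsFiltered J] in
theorem map_app_map_app {i j k : J} (f : i ⟶ j) (g : j ⟶ k) {U : X.Opens} (x : Γ(D.obj i, U)) :
    (D.map g).app U ((D.map f).app U x) = (D.map (f ≫ g)).app U x := by
  rw [D.map_comp]
  rfl

omit [QuasiSeparatedSpace X] [IsFiltered J] in
theorem ι_app_map_app {i j : J} (f : i ⟶ j) {U : X.Opens} (x : Γ(D.obj i, U)) :
    (c.ι.app j).app U ((D.map f).app U x) = (c.ι.app i).app U x := by
  conv_rhs => rw [← c.w f]
  rfl

/-- Finitely many sections dying in the colimit die at a common stage. -/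
theorem sec_kill_finite (hc : IsColimit c) {κ : Type*} [Finite κ] (U : κ → X.Opens)
    (hU : ∀ a, IsCompact (U a : Set X)) {i : J} (x : ∀ a, Γ(D.obj i, U a))
    (hx : ∀ a, (c.ι.app i).app (U a) (x a) = 0) :
    ∃ (k : J) (f : i ⟶ k), ∀ a, (D.map f).app (U a) (x a) = 0 := by
  classical
  have := Fintype.ofFinite κ
  suffices h : ∀ s : Finset κ, ∃ (k : J) (f : i ⟶ k), ∀ a ∈ s, (D.map f).app (U a) (x a) = 0 by
    obtain ⟨k, f, hf⟩ := h Finset.univ
    exact ⟨k, f, fun a => hf a (Finset.mem_univ a)⟩
  intro s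
  induction s using Finset.induction_on with
  | empty => exact ⟨i, 𝟙 i, fun a ha => absurd ha (Finset.notMem_empty a)⟩
  | insert b s hb ih =>
    obtain ⟨k, f, hf⟩ := ih
    obtain ⟨l, g, hg⟩ := sec_kill hc (hU b) ((D.map f).app (U b) (x b)) ((ι_app_map_app f _).trans (hx b))
    refine ⟨l, f ≫ g, fun a ha => ?_⟩
    rw [← map_app_map_app]
    rcases Finset.mem_insert.1 ha with rfl | ha
    · exact hg
    · rw [hf a ha, map_zero]

end GrothLib.HomColim20
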